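import Groth.Agent.QuillenLib.Pinch
import Mathlib.AlgebraicGeometry.AffineTransitionLimit
import Mathlib.Algebra.Category.Ring.FilteredColimits
import Mathlib.CategoryTheory.Limits.Types.Filtered
import Mathlib.Algebra.Polynomial.AlgebraMap
import Mathlib.Order.ULift

/-!
# Scaled points descend along a localisation
-/

universe u

open CategoryTheory Limits AlgebraicGeometry Opposite Polynomial

noncomputable section

namespace Groth.Agent.QuillenLib

variable {R A B : Type u} [CommRing R] [CommRing A] [CommRing B] [Algebra R A] [Algebra R B]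

/-- Points of a scheme over the base with values in an algebra. -/
abbrev O (R P : Type u) [CommRing R] [CommRing P] [Algebra R P] : Over (Spec (CommRingCat.of R)) :=
  Over.mk (Spec.map (CommRingCat.ofHom (algebraMap R P)))

/-- The map of spectra of an algebra map. -/
def om {P Q : Type u} [CommRing P] [CommRing Q] [Algebra R P] [Algebra R Q] (φ : P →ₐ[R] Q) : O R Q ⟶ O R P :=
  Over.homMk (Spec.map (CommRingCat.ofHom φ.toRingHom)) (by
    show _ ≫ Spec.map _ = Spec.map _
    rw [← specMap_comp]
    congr 2
    exact φ.comp_algebraMap)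

@[simp] theorem om_left {P Q : Type u} [CommRing P] [CommRing Q] [Algebra R P] [Algebra R Q] (φ : P →ₐ[R] Q) :
    (om φ).left = Spec.map (CommRingCat.ofHom φ.toRingHom) := rfl

theorem om_comp {P Q W : Type u} [CommRing P] [CommRing Q] [CommRing W] [Algebra R P] [Algebra R Q] [Algebra R W]
    (ψ : Q →ₐ[R] W) (φ : P →ₐ[R] Q) : om (ψ.comp φ) = om ψ ≫ om φ :=
  Over.OverMorphism.ext (specMap_comp ψ.toRingHom φ.toRingHom)

theorem om_id {P : Type u} [CommRing P] [Algebra R P] : om (AlgHom.id R P) = 𝟙 (O R P) :=
  Over.OverMorphism.ext (by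
    show Spec.map (CommRingCat.ofHom (RingHom.id P)) = _
    rw [CommRingCat.ofHom_id, Spec.map_id]; rfl)

/-- Evaluation of the variable at zero. -/
def ev0 (R P : Type u) [CommRing R] [CommRing P] [Algebra R P] : P[X] →ₐ[R] P :=
  (Polynomial.aeval (R := P) (0 : P)).restrictScalars R

/-- The scaling of the variable. -/
def scale (R : Type u) {P : Type u} [CommRing R] [CommRing P] [Algebra R P] (c : R) : P[X] →ₐ[R] P[X] :=
  (Polynomial.aeval (R := P) (Polynomial.C (algebraMap R P c) * Polynomial.X)).restrictScalars R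

theorem scale_scale {P : Type u} [CommRing P] [Algebra R P] (c d : R) (p : P[X]) :
    scale R c (scale R d p) = scale R (c * d) p := by
  simp only [scale, AlgHom.restrictScalars_apply]
  rw [← Polynomial.aeval_algHom_apply]
  congr 1
  simp [map_mul]; ring

theorem scale_one {P : Type u} [CommRing P] [Algebra R P] (p : P[X]) : scale R (1 : R) p = p := by
  simp [scale, Polynomial.aeval_X_left_apply]

theorem ev0_scale {P : Type u} [CommRing P] [Algebra R P] (c : R) (p : P[X]) :
    ev0 R P (scale R c p) = ev0 R P p := by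
  simp only [scale, ev0, AlgHom.restrictScalars_apply, ← Polynomial.aeval_algHom_apply]
  congr 1
  simp

theorem scale_X_mul {P : Type u} [CommRing P] [Algebra R P] (c : R) (p : P[X]) :
    scale R c (X * p) = C (algebraMap R P c) * X * scale R c p := by
  simp [scale]

theorem scale_map (φ : A →ₐ[R] B) (c : R) (p : A[X]) :
    scale R c (mapAlgHom φ p) = mapAlgHom φ (scale R c p) := by
  induction p using Polynomial.induction_on' with
  | add p q hp hq => simp only [map_add, hp, hq]
  | monomial i a => simp [scale, ← Polynomial.C_mul_X_pow_eq_monomial, mul_pow, φ.commutes]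

theorem ev0_map (φ : A →ₐ[R] B) (p : A[X]) : ev0 R B (mapAlgHom φ p) = φ (ev0 R A p) := by
  induction p using Polynomial.induction_on' with
  | add p q hp hq => simp only [map_add, hp, hq]
  | monomial i a =>
    rcases i with _ | i
    · simp [ev0]
    · simp [ev0]

/-- The map behaves like localisation at the element. -/
structure IsLocAt (φ : A →ₐ[R] B) (r : R) : Prop where
  unit : IsUnit (algebraMap R B r)
  surj : ∀ b : B, ∃ (N : ℕ) (a : A), φ a = algebraMap R B r ^ N * b
  ker : ∀ a : A, φ a = 0 → ∃ N : ℕ, algebraMap R A r ^ N * a = 0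

theorem IsLocAt.poly {φ : A →ₐ[R] B} {r : R} (h : IsLocAt φ r) : IsLocAt (mapAlgHom φ) r := by
  refine ⟨?_, fun q => ?_, fun p hp => ?_⟩
  · rw [IsScalarTower.algebraMap_apply R B B[X], Polynomial.algebraMap_eq]
    exact h.unit.map C
  · induction q using Polynomial.induction_on' with
    | add p q hp hq =>
      obtain ⟨N, a, ha⟩ := hp
      obtain ⟨M, b, hb⟩ := hq
      refine ⟨N + M, algebraMap R A[X] r ^ M * a + algebraMap R A[X] r ^ N * b, ?_⟩
      rw [map_add, map_mul, map_mul, map_pow, map_pow, AlgHom.commutes, ha, hb]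
      ring
    | monomial i b =>
      obtain ⟨N, a, ha⟩ := h.surj b
      refine ⟨N, monomial i a, ?_⟩
      show Polynomial.map (φ : A →+* B) (monomial i a) = _
      rw [Polynomial.map_monomial, show (φ : A →+* B) a = _ from ha, IsScalarTower.algebraMap_apply R B B[X],
        Polynomial.algebraMap_eq, ← map_pow C, Polynomial.C_mul_monomial]
  · induction hd : p.support using Finset.strongInduction generalizing p with
    | H s ih =>
      subst hd
      by_cases h0 : p = 0
      · exact ⟨0, by simp [h0]⟩
      obtain ⟨i, hi⟩ := Polynomial.nonempty_support_iff.mpr h0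
      have hci : φ (p.coeff i) = 0 := by
        have := congrArg (fun q => Polynomial.coeff q i) hp
        simpa using this
      obtain ⟨N, hN⟩ := h.ker _ hci
      obtain ⟨M, hM⟩ := ih (p.erase i).support (by
        rw [Polynomial.support_erase]; exact Finset.erase_ssubset hi) (p.erase i) (by
          refine Polynomial.ext fun j => ?_
          have := congrArg (fun q => Polynomial.coeff q j) hp
          by_cases hj : j = i
          · simp [hj, Polynomial.coe_mapAlgHom]
          · simpa [hj, Polynomial.coe_mapAlgHom, Polynomial.coeff_erase] using this) rfl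
      refine ⟨N + M, ?_⟩
      have hA : algebraMap R A[X] r = C (algebraMap R A r) := by
        rw [IsScalarTower.algebraMap_apply R A A[X], Polynomial.algebraMap_eq]
      rw [← Polynomial.monomial_add_erase p i, mul_add, pow_add]
      have h1 : algebraMap R A[X] r ^ N * monomial i (p.coeff i) = 0 := by
        rw [hA, ← map_pow, Polynomial.C_mul_monomial, hN, map_zero]
      rw [mul_right_comm, h1, zero_mul, zero_add, mul_assoc, hM, mul_zero]

variable {φ : A →ₐ[R] B} {r : R}

/-- The inverse of the element in the localisation. -/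
def IsLocAt.inv (h : IsLocAt φ r) : B := ((h.unit.unit⁻¹ : Bˣ) : B)

theorem IsLocAt.mul_inv (h : IsLocAt φ r) : algebraMap R B r * h.inv = 1 := h.unit.mul_val_inv

/-- The rescaling of the variable by an inverse power. -/
def IsLocAt.down (h : IsLocAt φ r) (N : ℕ) : B[X] →ₐ[R] B[X] :=
  (Polynomial.aeval (R := B) (Polynomial.C (h.inv ^ N) * Polynomial.X)).restrictScalars R

theorem IsLocAt.scale_down (h : IsLocAt φ r) (N : ℕ) (p : B[X]) : scale R (r ^ N) (h.down N p) = p := by
  simp only [scale, IsLocAt.down, AlgHom.restrictScalars_apply]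
  rw [← Polynomial.aeval_algHom_apply]
  have : (Polynomial.aeval (R := B) (C (algebraMap R B (r ^ N)) * X)) (C (h.inv ^ N) * X) = X := by
    rw [map_mul, Polynomial.aeval_C, Polynomial.aeval_X, Polynomial.algebraMap_eq, ← mul_assoc, ← map_mul,
      map_pow (algebraMap R B), ← mul_pow, mul_comm h.inv, h.mul_inv, one_pow, map_one, one_mul]
  rw [this, Polynomial.aeval_X_left_apply]

theorem IsLocAt.down_scale (h : IsLocAt φ r) (N : ℕ) (p : B[X]) : h.down N (scale R (r ^ N) p) = p := by
  simp only [scale, IsLocAt.down, AlgHom.restrictScalars_apply]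
  rw [← Polynomial.aeval_algHom_apply]
  have : (Polynomial.aeval (R := B) (C (h.inv ^ N) * X)) (C (algebraMap R B (r ^ N)) * X) = X := by
    rw [map_mul, Polynomial.aeval_C, Polynomial.aeval_X, Polynomial.algebraMap_eq, ← mul_assoc, ← map_mul,
      map_pow (algebraMap R B), ← mul_pow, h.mul_inv, one_pow, map_one, one_mul]
  rw [this, Polynomial.aeval_X_left_apply]

theorem IsLocAt.ev0_down (h : IsLocAt φ r) (N : ℕ) (p : B[X]) : ev0 R B (h.down N p) = ev0 R B p := by
  conv_rhs => rw [← h.scale_down N p, ev0_scale]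

/-- The index category. -/
abbrev Idx : Type u := ULift.{u} ℕ

instance : SemilatticeSup Idx.{u} := ULift.down_injective.semilatticeSup _ Iff.rfl Iff.rfl fun _ _ => rfl

/-- The system of polynomial rings with transition maps the scalings. -/
def sysF (A : Type u) [CommRing A] [Algebra R A] (r : R) : Idx.{u} ⥤ CommRingCat.{u} where
  obj _ := CommRingCat.of A[X]
  map {i j} _ := CommRingCat.ofHom (scale R (P := A) (r ^ (j.down - i.down))).toRingHom
  map_id i := by
    refine CommRingCat.hom_ext (RingHom.ext fun p => ?_)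
    simp [scale_one]
  map_comp {i j l} f g := by
    refine CommRingCat.hom_ext (RingHom.ext fun p => ?_)
    show scale R _ p = scale R _ (scale R _ p)
    rw [scale_scale, ← pow_add]
    congr 3
    have h1' : i ≤ j := leOfHom f
    have h2' : j ≤ l := leOfHom g
    have h1 : i.down ≤ j.down := h1'
    have h2 : j.down ≤ l.down := h2'
    omega

theorem ev0_map_eq (φ : A →ₐ[R] B) :
    ((ev0 R B).toRingHom.comp (mapAlgHom φ).toRingHom) = (φ : A →+* B).comp (ev0 R A).toRingHom :=
  RingHom.ext fun p => ev0_map φ p

/-- The fibre product which is the colimit of the system. -/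
abbrev Lim (φ : A →ₐ[R] B) : Type u := Pinch (ev0 R B).toRingHom φ.toRingHom

/-- The stage map into the fibre product. -/
def stage (h : IsLocAt φ r) (N : ℕ) : A[X] →+* Lim φ :=
  RingHom.codRestrict (((h.down N).toRingHom.comp (mapAlgHom φ).toRingHom).prod (ev0 R A).toRingHom) _ fun p => by
    show ev0 R B (h.down N (mapAlgHom φ p)) = φ (ev0 R A p)
    rw [h.ev0_down, ev0_map]

theorem toB_stage (h : IsLocAt φ r) (N : ℕ) (p : A[X]) :
    toB (ev0 R B).toRingHom φ.toRingHom (stage h N p) = h.down N (mapAlgHom φ p) := rfl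

theorem toA_stage (h : IsLocAt φ r) (N : ℕ) (p : A[X]) :
    toA (ev0 R B).toRingHom φ.toRingHom (stage h N p) = ev0 R A p := rfl

theorem stage_scale (h : IsLocAt φ r) (N d : ℕ) (p : A[X]) : stage h (N + d) (scale R (r ^ d) p) = stage h N p := by
  refine pinch_ext _ _ ?_ ?_
  · rw [toB_stage, toB_stage, ← scale_map]
    conv_lhs => rw [← h.scale_down N (mapAlgHom φ p), scale_scale, ← pow_add, Nat.add_comm d N, h.down_scale]
  · rw [toA_stage, toA_stage, ev0_scale]

theorem stage_surjective (h : IsLocAt φ r) (z : Lim φ) : ∃ (N : ℕ) (p : A[X]), stage h N p = z := by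
  have aux : ∀ q : B[X], ∃ (N : ℕ) (p : A[X]), mapAlgHom φ (X * p) = scale R (r ^ N) (X * q) := by
    intro q
    induction q using Polynomial.induction_on' with
    | add q q' hq hq' =>
      obtain ⟨N, p, hp⟩ := hq
      obtain ⟨M, p', hp'⟩ := hq'
      refine ⟨N + M, C (algebraMap R A (r ^ M)) * scale R (r ^ M) p + C (algebraMap R A (r ^ N)) * scale R (r ^ N) p', ?_⟩
      have e1 : X * (C (algebraMap R A (r ^ M)) * scale R (r ^ M) p + C (algebraMap R A (r ^ N)) * scale R (r ^ N) p') =
          scale R (r ^ M) (X * p) + scale R (r ^ N) (X * p') := by rw [scale_X_mul, scale_X_mul]; ring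
      rw [e1, map_add, ← scale_map, ← scale_map, hp, hp', scale_scale, scale_scale, mul_comm (r ^ M) (r ^ N),
        ← pow_add, ← map_add, ← mul_add]
    | monomial i b =>
      obtain ⟨M, a, ha⟩ := h.surj b
      refine ⟨M, monomial i (a * algebraMap R A r ^ (M * i)), ?_⟩
      have ha' : φ (a * algebraMap R A r ^ (M * i)) = algebraMap R B r ^ (M * (i + 1)) * b := by
        rw [map_mul, map_pow, φ.commutes, ha, Nat.mul_succ, pow_add]; ring
      rw [scale_X_mul, map_mul]
      simp only [scale, AlgHom.restrictScalars_apply, Polynomial.aeval_monomial, Polynomial.algebraMap_eq,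
        Polynomial.coe_mapAlgHom, Polynomial.map_monomial, Polynomial.map_X, mul_pow]
      rw [← Polynomial.C_mul_X_pow_eq_monomial, show (φ : A →+* B) _ = _ from ha', map_pow (algebraMap R B),
        map_mul C, map_pow C, map_pow C]
      ring
  obtain ⟨⟨q, a⟩, hz⟩ := z
  have hz' : ev0 R B q = φ a := hz
  obtain ⟨N, p, hp⟩ := aux q.divX
  refine ⟨N, C a + X * p, pinch_ext _ _ ?_ ?_⟩
  · show h.down N (mapAlgHom φ (C a + X * p)) = q
    rw [map_add, hp, map_add, h.down_scale]
    have h0 : q.coeff 0 = φ a := by rw [← hz', Polynomial.coeff_zero_eq_aeval_zero]; rfl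
    have hC : h.down N (mapAlgHom φ (C a)) = C (φ a) := by
      simp [IsLocAt.down]
    rw [hC, ← h0, add_comm]
    exact Polynomial.X_mul_divX_add q
  · show ev0 R A (C a + X * p) = a
    simp [ev0]

theorem stage_injective (h : IsLocAt φ r) (N : ℕ) (p : A[X]) (hp : stage h N p = 0) :
    ∃ d : ℕ, scale R (r ^ d) p = 0 := by
  have hB : h.down N (mapAlgHom φ p) = 0 := congrArg (toB (ev0 R B).toRingHom φ.toRingHom) hp
  have hA : ev0 R A p = 0 := congrArg (toA (ev0 R B).toRingHom φ.toRingHom) hp
  have hB' : mapAlgHom φ p = 0 := by rw [← h.scale_down N (mapAlgHom φ p), hB, map_zero]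
  have h0 : p.coeff 0 = 0 := by rw [← hA, Polynomial.coeff_zero_eq_aeval_zero]; rfl
  have hpX : p = X * p.divX := by conv_lhs => rw [← Polynomial.X_mul_divX_add p, h0, map_zero, add_zero]
  obtain ⟨M, hM⟩ := h.poly.ker p.divX (by
    have : mapAlgHom φ (X * p.divX) = 0 := by rw [← hpX, hB']
    rw [map_mul, Polynomial.coe_mapAlgHom, Polynomial.map_X] at this
    exact Polynomial.monic_X.isRegular.left (this.trans (mul_zero X).symm))
  refine ⟨M, ?_⟩
  rw [hpX, scale_X_mul, mul_assoc, mul_left_comm]
  have : C (algebraMap R A (r ^ M)) * scale R (r ^ M) p.divX = scale R (r ^ M) (algebraMap R A[X] r ^ M * p.divX) := by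
    rw [map_mul, map_pow (scale R (r ^ M)), AlgHom.commutes, ← map_pow (algebraMap R A[X]),
      IsScalarTower.algebraMap_apply R A A[X], Polynomial.algebraMap_eq]
  rw [this, hM, map_zero, mul_zero]

/-- The cocone of stages. -/
def stageCocone (h : IsLocAt φ r) : Cocone (sysF A r) where
  pt := CommRingCat.of (Lim φ)
  ι :=
    { app := fun i => CommRingCat.ofHom (stage h i.down)
      naturality := fun i j f => by
        refine CommRingCat.hom_ext (RingHom.ext fun p => ?_)
        show stage h j.down (scale R (r ^ (j.down - i.down)) p) = stage h i.down p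
        have hij' : i ≤ j := leOfHom f
        have hij : i.down ≤ j.down := hij'
        conv_lhs => rw [show j.down = i.down + (j.down - i.down) from (Nat.add_sub_cancel' hij).symm]
        rw [show i.down + (j.down - i.down) - i.down = j.down - i.down by omega]
        exact stage_scale h _ _ p }

/-- The fibre product is the colimit. -/
def stageColimit (h : IsLocAt φ r) : IsColimit (stageCocone h) := by
  haveI : PreservesColimit (sysF (R := R) A r) (forget CommRingCat.{u}) := inferInstance
  haveI : ReflectsColimit (sysF (R := R) A r) (forget CommRingCat.{u}) := reflectsColimit_of_reflectsIsomorphisms _ _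
  refine isColimitOfReflects (forget CommRingCat.{u}) (Types.FilteredColimit.isColimitOf' _ _ (fun z => ?_) fun i p q hpq => ?_)
  · obtain ⟨N, p, hp⟩ := stage_surjective h z
    exact ⟨⟨N⟩, p, hp.symm⟩
  · have hpq' : stage h i.down p = stage h i.down q := hpq
    obtain ⟨d, hd⟩ := stage_injective h i.down ((show A[X] from p) - (show A[X] from q)) (by
      rw [map_sub]; exact sub_eq_zero.mpr hpq')
    refine ⟨⟨i.down + d⟩, homOfLE (show i.down ≤ i.down + d from Nat.le_add_right _ _), ?_⟩
    show scale R (r ^ (i.down + d - i.down)) (show A[X] from p) = scale R (r ^ (i.down + d - i.down)) (show A[X] from q)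
    rw [Nat.add_sub_cancel_left, ← sub_eq_zero, ← map_sub, hd]

/-- Scaled points descend. -/
theorem exists_descend (h : IsLocAt φ r) {G : Over (Spec (CommRingCat.of R))} [LocallyOfFinitePresentation G.hom]
    (g : O R B[X] ⟶ G) (a : O R A ⟶ G) (hga : om (ev0 R B) ≫ g = om φ ≫ a) :
    ∃ (N : ℕ) (gA : O R A[X] ⟶ G), om (mapAlgHom φ) ≫ gA = om (scale R (r ^ N)) ≫ g := by
  obtain ⟨x, hxB, hxA⟩ := exists_hom_pinch (ev0 R B).toRingHom φ.toRingHom G.left (fun b => ⟨C b, by simp [ev0]⟩)
    g.left a.left (congrArg (fun m => m.left) hga)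
  let D : Idx.{u}ᵒᵖ ⥤ Scheme.{u} := (sysF A r).op ⋙ Scheme.Spec
  let c : Cone D := Scheme.Spec.mapCone (stageCocone h).op
  have hc : IsLimit c := isLimitOfPreserves Scheme.Spec (stageColimit h).op
  let t : D ⟶ (Functor.const _).obj (Spec (CommRingCat.of R)) :=
    { app := fun i => Spec.map (CommRingCat.ofHom (algebraMap R A[X]))
      naturality := fun i j f => by
        show Spec.map _ ≫ Spec.map _ = Spec.map _ ≫ 𝟙 _
        rw [Category.comp_id, ← Spec.map_comp]
        congr 1
        refine CommRingCat.hom_ext (RingHom.ext fun c => ?_)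
        exact (scale R (P := A) _).commutes c }
  have : ∀ {i j : Idx.{u}ᵒᵖ} (f : i ⟶ j), IsAffineHom (D.map f) := fun {i j} f =>
    inferInstanceAs (IsAffineHom (Spec.map _))
  have : ∀ i, CompactSpace (D.obj i) := fun i => inferInstanceAs (CompactSpace (Spec _))
  have : ∀ i, QuasiSeparatedSpace (D.obj i) := fun i => inferInstanceAs (QuasiSeparatedSpace (Spec _))
  have hx : ∀ i : Idx.{u}ᵒᵖ, c.π.app i ≫ t.app i = x ≫ G.hom := by
    intro i
    show Spec.map (CommRingCat.ofHom (stage h i.unop.down)) ≫ Spec.map (CommRingCat.ofHom (algebraMap R A[X])) = x ≫ G.hom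
    rw [← specMap_comp]
    refine hom_ext_pair (toB (ev0 R B).toRingHom φ.toRingHom) (toA (ev0 R B).toRingHom φ.toRingHom)
      (fun z h1 h2 => pinch_ext _ _ (h1.trans (map_zero _).symm) (h2.trans (map_zero _).symm))
      (pinch_surjective _ _ (fun b => ⟨C b, by simp [ev0]⟩)) _ _ ?_ ?_
    · rw [← Category.assoc, hxB, ← specMap_comp, Over.w g]
      congr 2
      refine RingHom.ext fun c => ?_
      show h.down _ (mapAlgHom φ (algebraMap R A[X] c)) = algebraMap R B[X] c
      rw [AlgHom.commutes, AlgHom.commutes]
    · rw [← Category.assoc, hxA, ← specMap_comp, Over.w a]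
      congr 2
      refine RingHom.ext fun c => ?_
      show ev0 R A (algebraMap R A[X] c) = algebraMap R A c
      rw [AlgHom.commutes]
  obtain ⟨i, gA, h1, h2⟩ := Scheme.exists_π_app_comp_eq_of_locallyOfFinitePresentation D t G.hom c hc x
    (NatTrans.ext (funext fun i => hx i))
  refine ⟨i.unop.down, Over.homMk gA h2, ?_⟩
  refine Over.OverMorphism.ext ?_
  show Spec.map (CommRingCat.ofHom (mapAlgHom φ).toRingHom) ≫ gA =
    Spec.map (CommRingCat.ofHom (scale R (P := B) (r ^ i.unop.down)).toRingHom) ≫ g.left
  have e : (mapAlgHom φ).toRingHom = (scale R (P := B) (r ^ i.unop.down)).toRingHom.comp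
      ((toB (ev0 R B).toRingHom φ.toRingHom).comp (stage h i.unop.down)) :=
    RingHom.ext fun p => (h.scale_down _ (mapAlgHom φ p)).symm
  rw [e, specMap_comp, specMap_comp, ← hxB, ← h1]
  simp only [Category.assoc]
  rfl

end Groth.Agent.QuillenLib
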