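import Groth.Agent.QuillenLib.Descend
import Mathlib.CategoryTheory.Monoidal.Cartesian.Grp
import Mathlib.CategoryTheory.Monoidal.Cartesian.Over

/-!
# Patching of points vanishing at zero
-/

universe u

open CategoryTheory Limits AlgebraicGeometry Opposite Polynomial MonObj

noncomputable section

namespace Groth.Agent.QuillenLib

variable {R : Type u} [CommRing R] {A B : Type u} [CommRing A] [CommRing B] [Algebra R A] [Algebra R B]

/-- Algebra maps out of a polynomial algebra over an algebra agree when they agree on constants and the variable. -/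
theorem polyHom_ext {P Q : Type u} [CommRing P] [CommRing Q] [Algebra R P] [Algebra R Q] {f g : P[X] →ₐ[R] Q}
    (hC : ∀ a, f (C a) = g (C a)) (hX : f X = g X) : f = g :=
  AlgHom.ext fun p => RingHom.congr_fun (Polynomial.ringHom_ext (f := (f : P[X] →+* Q)) (g := g) hC hX) p

/-- The linear substitution with parameters, into three-variable polynomials. -/
def lin (R P : Type u) [CommRing R] [CommRing P] [Algebra R P] (c : R) : P[X] →ₐ[R] P[X][X][X] :=
  (Polynomial.aeval (R := P) ((C X + C (C (C (algebraMap R P c))) * X) * C (C X) : P[X][X][X])).restrictScalars R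

/-- The specialisation of the two parameters. -/
def spec (R P : Type u) [CommRing R] [CommRing P] [Algebra R P] (cu cv : R) : P[X][X][X] →ₐ[R] P[X] :=
  ((Polynomial.aeval (R := P[X]) (C (algebraMap R P cu) : P[X])).restrictScalars R).comp
    ((Polynomial.aeval (R := P[X][X]) (C (C (algebraMap R P cv)) : P[X][X])).restrictScalars R)

theorem spec_lin (c cu cv : R) : (spec R B cu cv).comp (lin R B c) = scale R (cu + c * cv) := by
  refine polyHom_ext (fun b => ?_) ?_
  · simp [spec, lin, scale]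
  · simp [spec, lin, scale, map_add, map_mul]

theorem ev0_lin (c : R) : (ev0 R B[X][X]).comp (lin R B c) = (ev0 R B[X][X]).comp (lin R B 0) := by
  refine polyHom_ext (fun b => ?_) ?_
  · simp [lin, ev0]
  · simp [lin, ev0]

theorem scale_lin (c d : R) : (scale R d).comp (lin R B c) = lin R B (d * c) := by
  refine polyHom_ext (fun b => ?_) ?_
  · simp [lin, scale]
  · have e : algebraMap R B[X][X] d = C (C (algebraMap R B d)) := rfl
    simp [lin, scale, e, map_mul]; ring

theorem spec_map (φ : A →ₐ[R] B) (cu cv : R) :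
    (spec R B cu cv).comp (mapAlgHom (mapAlgHom (mapAlgHom φ))) = (mapAlgHom φ).comp (spec R A cu cv) := by
  refine polyHom_ext (fun a => ?_) ?_
  · induction a using Polynomial.induction_on' with
    | add p q hp hq => simp only [map_add, hp, hq]
    | monomial i a =>
      simp [spec, ← Polynomial.C_mul_X_pow_eq_monomial, φ.commutes]
  · simp [spec, φ.commutes]

theorem ev0_comp_map (φ : A →ₐ[R] B) : (ev0 R B).comp (mapAlgHom φ) = φ.comp (ev0 R A) :=
  AlgHom.ext fun p => ev0_map φ p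

theorem ev0_comp_scale {P : Type u} [CommRing P] [Algebra R P] (c : R) : (ev0 R P).comp (scale R c) = ev0 R P :=
  AlgHom.ext fun p => ev0_scale c p

/-- The constants. -/
def cst (R P : Type u) [CommRing R] [CommRing P] [Algebra R P] : P →ₐ[R] P[X] :=
  IsScalarTower.toAlgHom R P P[X]

theorem ev0_comp_cst {P : Type u} [CommRing P] [Algebra R P] : (ev0 R P).comp (cst R P) = AlgHom.id R P :=
  AlgHom.ext fun p => by simp [ev0, cst]

theorem map_comp_cst (φ : A →ₐ[R] B) : (mapAlgHom φ).comp (cst R A) = (cst R B).comp φ :=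
  AlgHom.ext fun p => by simp [cst]

variable {G : Over (Spec (CommRingCat.of R))} [GrpObj G]

/-- Normalisation at zero. -/
theorem exists_normalise (φ : A →ₐ[R] B) (gB : O R B[X] ⟶ G) (hgB : om (ev0 R B) ≫ gB = 1)
    (q : O R A[X] ⟶ G) (hq : om (mapAlgHom φ) ≫ q = gB) :
    ∃ q' : O R A[X] ⟶ G, om (ev0 R A) ≫ q' = 1 ∧ om (mapAlgHom φ) ≫ q' = gB := by
  refine ⟨q * (om (cst R A) ≫ om (ev0 R A) ≫ q)⁻¹, ?_, ?_⟩
  · rw [MonObj.comp_mul, GrpObj.comp_inv, ← Category.assoc (om (ev0 R A)) (om (cst R A)), ← om_comp, ev0_comp_cst,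
      om_id, Category.id_comp, mul_inv_cancel]
  · rw [MonObj.comp_mul, GrpObj.comp_inv, ← Category.assoc (om (mapAlgHom φ)) (om (cst R A)), ← om_comp, map_comp_cst,
      om_comp, Category.assoc, ← Category.assoc (om φ) (om (ev0 R A)), ← om_comp, ← ev0_comp_map, om_comp,
      Category.assoc, hq, hgB, MonObj.comp_one, inv_one, _root_.mul_one]

variable [LocallyOfFinitePresentation G.hom]

/-- Scalings by multiples of a high power descend to points vanishing at zero. -/
theorem exists_descend_mul {φ : A →ₐ[R] B} {r : R} (h : IsLocAt φ r) (g : O R B[X] ⟶ G)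
    (hg : om (ev0 R B) ≫ g = 1) :
    ∃ N : ℕ, ∀ c : R, ∃ q : O R A[X] ⟶ G, om (ev0 R A) ≫ q = 1 ∧ om (mapAlgHom φ) ≫ q = om (scale R (r ^ N * c)) ≫ g := by
  obtain ⟨N, gA, hgA⟩ := exists_descend h g 1 (by rw [hg, MonObj.comp_one])
  refine ⟨N, fun c => exists_normalise φ _ ?_ (om (scale R c) ≫ gA) ?_⟩
  · rw [← Category.assoc, ← om_comp, ev0_comp_scale, hg]
  · have e1 : (mapAlgHom φ).comp (scale R c) = (scale R c).comp (mapAlgHom φ) :=
      AlgHom.ext fun p => (scale_map φ c p).symm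
    have e2 : (scale R c).comp (scale R (r ^ N)) = scale (P := B) R (r ^ N * c) :=
      AlgHom.ext fun p => by rw [AlgHom.comp_apply, scale_scale, mul_comm]
    rw [← Category.assoc, ← om_comp, e1, om_comp, Category.assoc, hgA, ← Category.assoc, ← om_comp, e2]

/-- Differences of nearby scalings descend to points vanishing at zero. -/
theorem exists_descend_diff {φ : A →ₐ[R] B} {r : R} (h : IsLocAt φ r) (g : O R B[X] ⟶ G)
    (hg : om (ev0 R B) ≫ g = 1) :
    ∃ M : ℕ, ∀ cu cv : R, ∃ q : O R A[X] ⟶ G, om (ev0 R A) ≫ q = 1 ∧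
      om (mapAlgHom φ) ≫ q = (om (scale R (cu + r ^ M * cv)) ≫ g) * (om (scale R cu) ≫ g)⁻¹ := by
  let d : O R B[X][X][X] ⟶ G := (om (lin R B 1) ≫ g) * (om (lin R B 0) ≫ g)⁻¹
  have hd : om (ev0 R B[X][X]) ≫ d = 1 := by
    rw [MonObj.comp_mul, GrpObj.comp_inv, ← Category.assoc, ← Category.assoc, ← om_comp, ← om_comp, ev0_lin,
      mul_inv_cancel]
  obtain ⟨M, dA, hdA⟩ := exists_descend h.poly.poly d 1 (by rw [hd, MonObj.comp_one])
  refine ⟨M, fun cu cv => exists_normalise φ _ ?_ (om (spec R A cu cv) ≫ dA) ?_⟩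
  · rw [MonObj.comp_mul, GrpObj.comp_inv, ← Category.assoc, ← Category.assoc, ← om_comp, ← om_comp,
      ev0_comp_scale, ev0_comp_scale, mul_inv_cancel]
  · have key : om (mapAlgHom φ) ≫ om (spec R A cu cv) = om (spec R B cu cv) ≫ om (P := A[X][X][X]) (Q := B[X][X][X]) (mapAlgHom (mapAlgHom (mapAlgHom φ))) := by
      refine Over.OverMorphism.ext ?_
      simp only [om_left, Over.comp_left, ← specMap_comp]
      exact congrArg (fun e => Spec.map (CommRingCat.ofHom e)) (congrArg (fun e => AlgHom.toRingHom e) (spec_map φ cu cv)).symm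
    rw [← Category.assoc, key, Category.assoc]
    erw [hdA]
    rw [MonObj.comp_mul, GrpObj.comp_inv,
      MonObj.comp_mul, GrpObj.comp_inv]
    simp only [← Category.assoc, ← om_comp]
    rw [← AlgHom.comp_assoc, ← AlgHom.comp_assoc]
    simp only [AlgHom.comp_assoc, scale_lin, spec_lin, _root_.mul_one, mul_zero, zero_mul, add_zero]

/-- Patching of a point vanishing at zero over an overlap. -/
theorem exists_patch {A' : Type u} [CommRing A'] [Algebra R A'] {φ : A →ₐ[R] B} {φ' : A' →ₐ[R] B} {r r' : R}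
    (hA : IsLocAt φ r') (hA' : IsLocAt φ' r) (hrr : Ideal.span ({r, r'} : Set R) = ⊤)
    (g : O R B[X] ⟶ G) (hg : om (ev0 R B) ≫ g = 1) :
    ∃ (g₁ : O R A[X] ⟶ G) (g₂ : O R A'[X] ⟶ G), om (ev0 R A) ≫ g₁ = 1 ∧ om (ev0 R A') ≫ g₂ = 1 ∧
      g = (om (mapAlgHom φ) ≫ g₁) * (om (mapAlgHom φ') ≫ g₂) := by
  obtain ⟨N, hN⟩ := exists_descend_mul hA' g hg
  obtain ⟨M, hM⟩ := exists_descend_diff hA g hg
  have hc : IsCoprime r r' := by
    rw [← Ideal.isCoprime_span_singleton_iff, Ideal.isCoprime_iff_sup_eq, ← Ideal.span_union,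
      Set.singleton_union, hrr]
  obtain ⟨a, b, hab⟩ := (hc.pow (m := N) (n := M))
  obtain ⟨g₂, h2, e2⟩ := hN a
  obtain ⟨g₁, h1, e1⟩ := hM (r ^ N * a) b
  refine ⟨g₁, g₂, h1, h2, ?_⟩
  rw [e1, e2, inv_mul_cancel_right, show r ^ N * a + r' ^ M * b = 1 by rw [← hab]; ring,
    show scale R (1 : R) = AlgHom.id R B[X] from AlgHom.ext scale_one, om_id, Category.id_comp]

theorem isLocAt_away {r s t : R} (φ : A →ₐ[R] B) [IsLocalization.Away r A] [IsLocalization.Away (r * s) B]
    (ht : t = s) : IsLocAt φ t := by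
  subst ht
  have hu : IsUnit (algebraMap R B (r * t)) := IsLocalization.Away.algebraMap_isUnit (r * t)
  rw [map_mul] at hu
  refine ⟨isUnit_of_mul_isUnit_right hu, fun b => ?_, fun a ha => ?_⟩
  · obtain ⟨⟨c, ⟨_, N, rfl⟩⟩, hc⟩ := IsLocalization.surj (Submonoid.powers (r * t)) b
    obtain ⟨u, hu'⟩ := (IsLocalization.Away.algebraMap_isUnit (S := A) r).pow N
    refine ⟨N, algebraMap R A c * ((u⁻¹ : Aˣ) : A), ?_⟩
    refine ((isUnit_of_mul_isUnit_left hu).pow N).mul_right_cancel ?_
    have e : φ ((u : Aˣ) : A) = algebraMap R B r ^ N := by rw [hu', map_pow, φ.commutes]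
    rw [← e, ← map_mul, Units.inv_mul_cancel_right, φ.commutes, ← hc, e, map_pow, map_mul, mul_pow]
    ring
  · obtain ⟨⟨c, ⟨_, N, rfl⟩⟩, hc⟩ := IsLocalization.surj (Submonoid.powers r) a
    have h0 : algebraMap R B c = 0 := by rw [← φ.commutes, ← hc, map_mul, ha, zero_mul]
    obtain ⟨⟨_, M, rfl⟩, hM⟩ := (IsLocalization.map_eq_zero_iff (Submonoid.powers (r * t)) _ _).mp h0
    refine ⟨M, ?_⟩
    have hr : IsUnit (algebraMap R A r) := IsLocalization.Away.algebraMap_isUnit r
    have h1 : algebraMap R A ((r * t) ^ M * c) = 0 := by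
      rw [show (r * t) ^ M * c = 0 from hM, map_zero]
    rw [map_mul, map_pow, map_mul, ← hc, map_pow] at h1
    refine (hr.pow (M + N)).mul_left_cancel ?_
    rw [mul_zero, pow_add]
    linear_combination h1

end Groth.Agent.QuillenLib
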