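import Mathlib.AlgebraicGeometry.Gluing
import Mathlib.AlgebraicGeometry.Pullbacks
import Mathlib.RingTheory.Localization.BaseChange

/-!
# Morphisms out of the spectrum of a fibre product of rings along a surjection
-/

universe u

open CategoryTheory Limits AlgebraicGeometry

noncomputable section

namespace Groth.Agent.QuillenLib

/-- Morphisms out of a spectrum are detected on a jointly injective and jointly surjective pair. -/
theorem hom_ext_pair {T B A : Type u} [CommRing T] [CommRing B] [CommRing A] (i : T →+* B) (j : T →+* A)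
    (hinj : ∀ x, i x = 0 → j x = 0 → x = 0)
    (hsurj : ∀ P : PrimeSpectrum T, P ∈ Set.range (PrimeSpectrum.comap i) ∨ P ∈ Set.range (PrimeSpectrum.comap j))
    {G : Scheme.{u}} (h h' : Spec (CommRingCat.of T) ⟶ G)
    (hi : Spec.map (CommRingCat.ofHom i) ≫ h = Spec.map (CommRingCat.ofHom i) ≫ h')
    (hj : Spec.map (CommRingCat.ofHom j) ≫ h = Spec.map (CommRingCat.ofHom j) ≫ h') : h = h' := by
  have hb : ∀ x, h x = h' x := by
    intro x
    rcases hsurj x with ⟨y, rfl⟩ | ⟨y, rfl⟩
    · exact congrArg (fun m : Spec (CommRingCat.of B) ⟶ G => m y) hi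
    · exact congrArg (fun m : Spec (CommRingCat.of A) ⟶ G => m y) hj
  refine Scheme.hom_ext_of_forall h h' fun x => ?_
  obtain ⟨_, ⟨U : G.Opens, hU, rfl⟩, hxU, -⟩ :=
    G.isBasis_affineOpens.exists_subset_of_mem_open (Set.mem_univ (h x)) isOpen_univ
  obtain ⟨_, ⟨c, rfl⟩, hxc, hcU⟩ := PrimeSpectrum.isTopologicalBasis_basic_opens.exists_subset_of_mem_open
    (show x ∈ ((h ⁻¹ᵁ U ⊓ h' ⁻¹ᵁ U : (Spec (CommRingCat.of T)).Opens) : Set (Spec (CommRingCat.of T))) from
      ⟨hxU, show h' x ∈ U from hb x ▸ hxU⟩) (TopologicalSpace.Opens.isOpen _)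
  refine ⟨PrimeSpectrum.basicOpen c, hxc, ?_⟩
  haveI : IsAffine U.toScheme := hU
  let Tc := Localization.Away c
  let Bc := Localization.Away (i c)
  let Ac := Localization.Away (j c)
  let ic : Tc →+* Bc := IsLocalization.Away.map Tc Bc i c
  let jc : Tc →+* Ac := IsLocalization.Away.map Tc Ac j c
  let loc : Spec (CommRingCat.of Tc) ⟶ Spec (CommRingCat.of T) := Spec.map (CommRingCat.ofHom (algebraMap T Tc))
  have hrange : Set.range loc = (PrimeSpectrum.basicOpen c : Set (PrimeSpectrum T)) :=
    PrimeSpectrum.localization_away_comap_range Tc c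
  have ha0 : Set.range (loc ≫ h) ⊆ Set.range U.ι := by
    rintro _ ⟨w, rfl⟩
    rw [Scheme.Opens.range_ι]
    exact (hcU (hrange ▸ ⟨w, rfl⟩ : loc w ∈ (PrimeSpectrum.basicOpen c : Set (PrimeSpectrum T)))).1
  have hb0 : Set.range (loc ≫ h') ⊆ Set.range U.ι := by
    rintro _ ⟨w, rfl⟩
    rw [Scheme.Opens.range_ι]
    exact (hcU (hrange ▸ ⟨w, rfl⟩ : loc w ∈ (PrimeSpectrum.basicOpen c : Set (PrimeSpectrum T)))).2
  let a := IsOpenImmersion.lift U.ι (loc ≫ h) ha0
  let b := IsOpenImmersion.lift U.ι (loc ≫ h') hb0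
  have hic : ic.comp (algebraMap T Tc) = (algebraMap B Bc).comp i := IsLocalization.map_comp _
  have hjc : jc.comp (algebraMap T Tc) = (algebraMap A Ac).comp j := IsLocalization.map_comp _
  have ei : Spec.map (CommRingCat.ofHom ic) ≫ loc =
      Spec.map (CommRingCat.ofHom (algebraMap B Bc)) ≫ Spec.map (CommRingCat.ofHom i) := by
    simp only [loc, ← Spec.map_comp, ← CommRingCat.ofHom_comp, hic]
  have ej : Spec.map (CommRingCat.ofHom jc) ≫ loc =
      Spec.map (CommRingCat.ofHom (algebraMap A Ac)) ≫ Spec.map (CommRingCat.ofHom j) := by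
    simp only [loc, ← Spec.map_comp, ← CommRingCat.ofHom_comp, hjc]
  have ai : Spec.map (CommRingCat.ofHom ic) ≫ a = Spec.map (CommRingCat.ofHom ic) ≫ b := by
    rw [← cancel_mono U.ι, Category.assoc, Category.assoc, IsOpenImmersion.lift_fac, IsOpenImmersion.lift_fac,
      ← Category.assoc, ← Category.assoc, ei, Category.assoc, Category.assoc, hi]
  have aj : Spec.map (CommRingCat.ofHom jc) ≫ a = Spec.map (CommRingCat.ofHom jc) ≫ b := by
    rw [← cancel_mono U.ι, Category.assoc, Category.assoc, IsOpenImmersion.lift_fac, IsOpenImmersion.lift_fac,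
      ← Category.assoc, ← Category.assoc, ej, Category.assoc, Category.assoc, hj]
  have hz : ∀ z : Tc, ic z = 0 → jc z = 0 → z = 0 := by
    intro z hzi hzj
    obtain ⟨⟨x, ⟨_, N, rfl⟩⟩, hx⟩ := IsLocalization.surj (Submonoid.powers c) z
    have hxi : algebraMap B Bc (i x) = 0 := by
      rw [← RingHom.comp_apply, ← hic, RingHom.comp_apply, ← hx, map_mul, hzi, zero_mul]
    have hxj : algebraMap A Ac (j x) = 0 := by
      rw [← RingHom.comp_apply, ← hjc, RingHom.comp_apply, ← hx, map_mul, hzj, zero_mul]
    obtain ⟨⟨_, m, rfl⟩, hm⟩ := (IsLocalization.map_eq_zero_iff (Submonoid.powers (i c)) _ _).mp hxi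
    obtain ⟨⟨_, m', rfl⟩, hm'⟩ := (IsLocalization.map_eq_zero_iff (Submonoid.powers (j c)) _ _).mp hxj
    have hx0 : c ^ (m + m') * x = 0 := by
      refine hinj _ ?_ ?_
      · rw [map_mul, map_pow, pow_add, mul_right_comm, show i c ^ m * i x = 0 from hm, zero_mul]
      · rw [map_mul, map_pow, pow_add, mul_assoc, show j c ^ m' * j x = 0 from hm', mul_zero]
    have hu : IsUnit (algebraMap T Tc c) := IsLocalization.Away.algebraMap_isUnit c
    have h0 : algebraMap T Tc x = 0 := by
      refine (hu.pow (m + m')).mul_left_cancel ?_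
      rw [← map_pow, ← map_mul, hx0, map_zero, mul_zero]
    have h1 : z * algebraMap T Tc (c ^ N) = 0 := hx.trans h0
    rw [map_pow] at h1
    exact (hu.pow N).mul_left_eq_zero.mp h1
  have hab : a = b := by
    refine ext_of_isAffine (CommRingCat.hom_ext (RingHom.ext fun g => ?_))
    have hi' := ConcreteCategory.congr_hom (congrArg Scheme.Hom.appTop ai) g
    have hj' := ConcreteCategory.congr_hom (congrArg Scheme.Hom.appTop aj) g
    simp only [Scheme.Hom.comp_appTop, CommRingCat.comp_apply] at hi' hj'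
    have hn : ∀ (P : Type u) [CommRing P] (φ : Tc →+* P) (w : Γ(Spec (CommRingCat.of Tc), ⊤)),
        φ ((Scheme.ΓSpecIso (CommRingCat.of Tc)).hom w) =
          (Scheme.ΓSpecIso (CommRingCat.of P)).hom ((Spec.map (CommRingCat.ofHom φ)).appTop w) := fun P _ φ w =>
      (ConcreteCategory.congr_hom (Scheme.ΓSpecIso_naturality (CommRingCat.ofHom φ)) w).symm
    refine (ConcreteCategory.bijective_of_isIso (Scheme.ΓSpecIso (CommRingCat.of Tc)).hom).1 ?_
    rw [← sub_eq_zero]
    refine hz _ ?_ ?_
    · rw [map_sub, hn _ ic, hn _ ic, hi', sub_self]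
    · rw [map_sub, hn _ jc, hn _ jc, hj', sub_self]
  have h2 : loc ≫ h = loc ≫ h' := by
    rw [← IsOpenImmersion.lift_fac U.ι (loc ≫ h) ha0, ← IsOpenImmersion.lift_fac U.ι (loc ≫ h') hb0]
    exact congrArg (· ≫ U.ι) hab
  show (Scheme.Opens.ι (X := Spec (CommRingCat.of T)) (PrimeSpectrum.basicOpen c)) ≫ h = _
  have hr2 : Set.range (Scheme.Opens.ι (X := Spec (CommRingCat.of T)) (PrimeSpectrum.basicOpen c)) ⊆ Set.range loc := by
    rw [Scheme.Opens.range_ι, hrange]
    exact le_refl _
  haveI : IsOpenImmersion loc := IsOpenImmersion.of_isLocalization c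
  rw [← IsOpenImmersion.lift_fac loc (Scheme.Opens.ι (X := Spec (CommRingCat.of T)) (PrimeSpectrum.basicOpen c)) hr2,
    Category.assoc, Category.assoc, h2]

/-- The spectrum of a composite. -/
theorem specMap_comp {P Q W : Type u} [CommRing P] [CommRing Q] [CommRing W] (g : Q →+* W) (h : P →+* Q) :
    Spec.map (CommRingCat.ofHom (g.comp h)) = Spec.map (CommRingCat.ofHom g) ≫ Spec.map (CommRingCat.ofHom h) := by
  rw [CommRingCat.ofHom_comp, Spec.map_comp]

/-- Local morphisms restricted to an overlap, followed by one factor. -/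
theorem overlap_comp {C B : Type u} [CommRing C] [CommRing B] (φ : C →+* B) (s t : C)
    (T : Type u) [CommRing T] [Algebra C T] [IsLocalization.Away (s * t) T]
    (W : Type u) [CommRing W] [Algebra B W] [IsLocalization.Away (φ (s * t)) W]
    (Cs Ct : Type u) [CommRing Cs] [CommRing Ct] [Algebra C Cs] [Algebra C Ct]
    [IsLocalization.Away s Cs] [IsLocalization.Away t Ct] (i : Cs →+* T) (j : Ct →+* T)
    (hi : i.comp (algebraMap C Cs) = algebraMap C T) (hj : j.comp (algebraMap C Ct) = algebraMap C T)
    (Bs Bt : Type u) [CommRing Bs] [CommRing Bt] [Algebra B Bs] [Algebra B Bt]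
    [IsLocalization.Away (φ s) Bs] [IsLocalization.Away (φ t) Bt]
    {G : Scheme.{u}} (f : Spec (CommRingCat.of B) ⟶ G) (hs : Spec (CommRingCat.of Cs) ⟶ G)
    (ht : Spec (CommRingCat.of Ct) ⟶ G)
    (es : Spec.map (CommRingCat.ofHom (IsLocalization.Away.map Cs Bs φ s)) ≫ hs =
      Spec.map (CommRingCat.ofHom (algebraMap B Bs)) ≫ f)
    (et : Spec.map (CommRingCat.ofHom (IsLocalization.Away.map Ct Bt φ t)) ≫ ht =
      Spec.map (CommRingCat.ofHom (algebraMap B Bt)) ≫ f) :
    Spec.map (CommRingCat.ofHom (IsLocalization.Away.map T W φ (s * t))) ≫ Spec.map (CommRingCat.ofHom i) ≫ hs =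
      Spec.map (CommRingCat.ofHom (IsLocalization.Away.map T W φ (s * t))) ≫ Spec.map (CommRingCat.ofHom j) ≫ ht := by
  have hu : IsUnit (algebraMap B W (φ (s * t))) := IsLocalization.Away.algebraMap_isUnit _
  rw [map_mul, map_mul] at hu
  let u : Bs →+* W := IsLocalization.Away.lift (φ s) (g := algebraMap B W) (isUnit_of_mul_isUnit_left hu)
  let u' : Bt →+* W := IsLocalization.Away.lift (φ t) (g := algebraMap B W) (isUnit_of_mul_isUnit_right hu)
  have hb : u.comp (algebraMap B Bs) = algebraMap B W := IsLocalization.Away.lift_comp _ _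
  have hb' : u'.comp (algebraMap B Bt) = algebraMap B W := IsLocalization.Away.lift_comp _ _
  set mT := IsLocalization.Away.map T W φ (s * t)
  have hm : mT.comp (algebraMap C T) = (algebraMap B W).comp φ := IsLocalization.map_comp _
  have e1 : mT.comp i = u.comp (IsLocalization.Away.map Cs Bs φ s) := by
    refine IsLocalization.ringHom_ext (Submonoid.powers s) ?_
    rw [RingHom.comp_assoc, hi, hm, RingHom.comp_assoc,
      show (IsLocalization.Away.map Cs Bs φ s).comp (algebraMap C Cs) = (algebraMap B Bs).comp φ from IsLocalization.map_comp _,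
      ← RingHom.comp_assoc, hb]
  have e2 : mT.comp j = u'.comp (IsLocalization.Away.map Ct Bt φ t) := by
    refine IsLocalization.ringHom_ext (Submonoid.powers t) ?_
    rw [RingHom.comp_assoc, hj, hm, RingHom.comp_assoc,
      show (IsLocalization.Away.map Ct Bt φ t).comp (algebraMap C Ct) = (algebraMap B Bt).comp φ from IsLocalization.map_comp _,
      ← RingHom.comp_assoc, hb']
  rw [← Category.assoc, ← Category.assoc, ← specMap_comp, ← specMap_comp, e1, e2, specMap_comp, specMap_comp,
    Category.assoc, Category.assoc, es, et, ← Category.assoc, ← Category.assoc, ← specMap_comp, ← specMap_comp,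
    hb, hb']

variable {A B D : Type u} [CommRing A] [CommRing B] [CommRing D] (π : B →+* D) (α : A →+* D)

/-- The fibre product of rings. -/
abbrev Pinch : Type u := ↥(RingHom.eqLocus (π.comp (RingHom.fst B A)) (α.comp (RingHom.snd B A)))

/-- The first projection. -/
abbrev toB : Pinch π α →+* B := (RingHom.fst B A).comp (Subring.subtype _)

/-- The second projection. -/
abbrev toA : Pinch π α →+* A := (RingHom.snd B A).comp (Subring.subtype _)

theorem compat (x : Pinch π α) : π (toB π α x) = α (toA π α x) := x.2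

theorem exists_pinch (b : B) (a : A) (h : π b = α a) : ∃ x : Pinch π α, toB π α x = b ∧ toA π α x = a :=
  ⟨⟨(b, a), h⟩, rfl, rfl⟩

theorem pinch_ext {x y : Pinch π α} (h1 : toB π α x = toB π α y) (h2 : toA π α x = toA π α y) : x = y :=
  Subtype.ext (Prod.ext h1 h2)

theorem pinch_surjective (hπ : Function.Surjective π) (P : PrimeSpectrum (Pinch π α)) :
    P ∈ Set.range (PrimeSpectrum.comap (toB π α)) ∨ P ∈ Set.range (PrimeSpectrum.comap (toA π α)) := by
  by_cases hK : RingHom.ker (toA π α) ≤ P.asIdeal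
  · right
    have hs : Function.Surjective (toA π α) := fun a => by
      obtain ⟨b, hb⟩ := hπ (α a)
      exact ⟨⟨(b, a), hb⟩, rfl⟩
    refine ⟨⟨P.asIdeal.map (toA π α), Ideal.map_isPrime_of_surjective hs hK⟩, PrimeSpectrum.ext ?_⟩
    show Ideal.comap (toA π α) (Ideal.map (toA π α) P.asIdeal) = P.asIdeal
    rw [Ideal.comap_map_of_surjective _ hs]
    exact sup_eq_left.mpr hK
  · left
    obtain ⟨c, hc, hcP⟩ := SetLike.not_le_iff_exists.mp hK
    have hπc : π (toB π α c) = 0 := by rw [compat, RingHom.mem_ker.mp hc, map_zero]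
    let lf : B → Pinch π α := fun b => ⟨(b * toB π α c, 0), show π (b * toB π α c) = α 0 by
      rw [map_mul, hπc, mul_zero, map_zero]⟩
    have hmul : ∀ b b', lf (b * b') * c = lf b * lf b' := fun b b' => Subtype.ext (Prod.ext
      (show b * b' * toB π α c * toB π α c = b * toB π α c * (b' * toB π α c) by ring)
      (show (0 : A) * toA π α c = 0 * 0 by simp))
    let Q : Ideal B :=
      { carrier := {b | lf b ∈ P.asIdeal}
        add_mem' := fun {b b'} h h' => by
          have : lf (b + b') = lf b + lf b' := Subtype.ext (Prod.ext (add_mul b b' _) (add_zero 0).symm)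
          show lf (b + b') ∈ P.asIdeal
          rw [this]
          exact add_mem h h'
        zero_mem' := by
          have : lf 0 = 0 := Subtype.ext (Prod.ext (zero_mul _) rfl)
          show lf 0 ∈ P.asIdeal
          rw [this]
          exact zero_mem _
        smul_mem' := fun r b h => by
          refine (P.2.mem_or_mem (?_ : lf (r * b) * c ∈ P.asIdeal)).resolve_right hcP
          rw [hmul]
          exact Ideal.mul_mem_left _ _ h }
    have hQmem : ∀ x : Pinch π α, toB π α x ∈ Q ↔ x ∈ P.asIdeal := by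
      intro x
      have : lf (toB π α x) = x * c := Subtype.ext (Prod.ext rfl
        (show (0 : A) = toA π α x * toA π α c by rw [RingHom.mem_ker.mp hc, mul_zero]))
      show lf (toB π α x) ∈ P.asIdeal ↔ _
      rw [this]
      exact ⟨fun h => (P.2.mem_or_mem h).resolve_right hcP, fun h => Ideal.mul_mem_right _ _ h⟩
    have hQ : Q.IsPrime := by
      refine ⟨fun h => hcP ?_, fun {b b'} h => ?_⟩
      · rw [← hQmem, h]; trivial
      · have h' : lf b * lf b' ∈ P.asIdeal := by rw [← hmul]; exact Ideal.mul_mem_right _ _ h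
        exact P.2.mem_or_mem h'
    exact ⟨⟨Q, hQ⟩, PrimeSpectrum.ext (Ideal.ext hQmem)⟩

variable (G : Scheme.{u}) (s : Pinch π α)

/-- Localisation of the fibre product at an element, jointly injective and surjective. -/
theorem hom_ext_away (hπ : Function.Surjective π) (T : Type u) [CommRing T] [Algebra (Pinch π α) T]
    [IsLocalization.Away s T] (h h' : Spec (CommRingCat.of T) ⟶ G)
    (hi : Spec.map (CommRingCat.ofHom (IsLocalization.Away.map T (Localization.Away (toB π α s)) (toB π α) s)) ≫ h =
      Spec.map (CommRingCat.ofHom (IsLocalization.Away.map T (Localization.Away (toB π α s)) (toB π α) s)) ≫ h')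
    (hj : Spec.map (CommRingCat.ofHom (IsLocalization.Away.map T (Localization.Away (toA π α s)) (toA π α) s)) ≫ h =
      Spec.map (CommRingCat.ofHom (IsLocalization.Away.map T (Localization.Away (toA π α s)) (toA π α) s)) ≫ h') :
    h = h' := by
  refine hom_ext_pair _ _ (fun z hz1 hz2 => ?_) (fun P => ?_) h h' hi hj
  · obtain ⟨⟨x, ⟨_, N, rfl⟩⟩, hx⟩ := IsLocalization.surj (Submonoid.powers s) z
    have h1 : algebraMap B (Localization.Away (toB π α s)) (toB π α x) = 0 := by
      have := congrArg (IsLocalization.Away.map T (Localization.Away (toB π α s)) (toB π α) s) hx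
      rw [map_mul, hz1, zero_mul] at this
      rw [this, IsLocalization.Away.map, IsLocalization.map_eq]
    have h2 : algebraMap A (Localization.Away (toA π α s)) (toA π α x) = 0 := by
      have := congrArg (IsLocalization.Away.map T (Localization.Away (toA π α s)) (toA π α) s) hx
      rw [map_mul, hz2, zero_mul] at this
      rw [this, IsLocalization.Away.map, IsLocalization.map_eq]
    obtain ⟨⟨_, m, rfl⟩, hm⟩ := (IsLocalization.map_eq_zero_iff (Submonoid.powers (toB π α s)) _ _).mp h1
    obtain ⟨⟨_, m', rfl⟩, hm'⟩ := (IsLocalization.map_eq_zero_iff (Submonoid.powers (toA π α s)) _ _).mp h2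
    have hx0 : s ^ (m + m') * x = 0 := by
      refine pinch_ext π α ?_ ?_
      · rw [map_mul, map_pow, pow_add, mul_right_comm, show toB π α s ^ m * toB π α x = 0 from hm, zero_mul, map_zero]
      · rw [map_mul, map_pow, pow_add, mul_assoc, show toA π α s ^ m' * toA π α x = 0 from hm', mul_zero, map_zero]
    have hu : IsUnit (algebraMap _ T s) := IsLocalization.Away.algebraMap_isUnit s
    have h0 : algebraMap _ T x = 0 := by
      refine (hu.pow (m + m')).mul_left_cancel ?_
      rw [← map_pow, ← map_mul, hx0, map_zero, mul_zero]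
    have h3 : z * algebraMap _ T (s ^ N) = 0 := hx.trans h0
    rw [map_pow] at h3
    exact (hu.pow N).mul_left_eq_zero.mp h3
  · have hP : s ∉ (PrimeSpectrum.comap (algebraMap (Pinch π α) T) P).asIdeal := fun hm =>
      P.2.ne_top (Ideal.eq_top_of_isUnit_mem _ hm (IsLocalization.Away.algebraMap_isUnit s))
    rcases pinch_surjective π α hπ (PrimeSpectrum.comap (algebraMap _ T) P) with ⟨Q, hQ⟩ | ⟨Q, hQ⟩
    · left
      have hQs : Q ∈ Set.range (PrimeSpectrum.comap (algebraMap B (Localization.Away (toB π α s)))) := by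
        rw [PrimeSpectrum.localization_away_comap_range _ (toB π α s)]
        show toB π α s ∉ Q.asIdeal
        exact fun hm => hP (hQ ▸ hm)
      obtain ⟨Q', rfl⟩ := hQs
      refine ⟨Q', (PrimeSpectrum.localization_comap_injective T (Submonoid.powers s)) ?_⟩
      rw [← hQ, ← PrimeSpectrum.comap_comp_apply, ← PrimeSpectrum.comap_comp_apply]
      congr 1
      exact IsLocalization.map_comp _
    · right
      have hQs : Q ∈ Set.range (PrimeSpectrum.comap (algebraMap A (Localization.Away (toA π α s)))) := by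
        rw [PrimeSpectrum.localization_away_comap_range _ (toA π α s)]
        show toA π α s ∉ Q.asIdeal
        exact fun hm => hP (hQ ▸ hm)
      obtain ⟨Q', rfl⟩ := hQs
      refine ⟨Q', (PrimeSpectrum.localization_comap_injective T (Submonoid.powers s)) ?_⟩
      rw [← hQ, ← PrimeSpectrum.comap_comp_apply, ← PrimeSpectrum.comap_comp_apply]
      congr 1
      exact IsLocalization.map_comp _

/-- Compatible elements of the localisations lift to the localisation of the fibre product. -/
theorem exists_lift_away (T : Type u) [CommRing T] [Algebra (Pinch π α) T] [IsLocalization.Away s T]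
    (x : Localization.Away (toB π α s)) (y : Localization.Away (toA π α s))
    {Ds : Type u} [CommRing Ds] [Algebra D Ds] [IsLocalization.Away (π (toB π α s)) Ds]
    (φ : Localization.Away (toB π α s) →+* Ds) (ψ : Localization.Away (toA π α s) →+* Ds)
    (hφ : ∀ b, φ (algebraMap B _ b) = algebraMap D Ds (π b))
    (hψ : ∀ a, ψ (algebraMap A _ a) = algebraMap D Ds (α a)) (hxy : φ x = ψ y) :
    ∃ z : T, IsLocalization.Away.map T (Localization.Away (toB π α s)) (toB π α) s z = x ∧
      IsLocalization.Away.map T (Localization.Away (toA π α s)) (toA π α) s z = y := by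
  obtain ⟨⟨b, ⟨_, k, rfl⟩⟩, hb⟩ := IsLocalization.surj (Submonoid.powers (toB π α s)) x
  obtain ⟨⟨a, ⟨_, l, rfl⟩⟩, ha⟩ := IsLocalization.surj (Submonoid.powers (toA π α s)) y
  simp only [map_pow] at hb ha
  have hbφ : φ x * algebraMap D Ds (π (toB π α s)) ^ k = algebraMap D Ds (π b) := by
    have := congrArg φ hb
    rwa [map_mul, map_pow, hφ, hφ] at this
  have haψ : ψ y * algebraMap D Ds (π (toB π α s)) ^ l = algebraMap D Ds (α a) := by
    have := congrArg ψ ha
    rw [map_mul, map_pow, hψ, hψ] at this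
    rwa [compat π α s]
  have heq : algebraMap D Ds (π b * π (toB π α s) ^ l) = algebraMap D Ds (α a * π (toB π α s) ^ k) := by
    rw [map_mul, map_mul, map_pow, map_pow, ← hbφ, ← haψ, hxy]
    ring
  obtain ⟨⟨_, m, rfl⟩, hm⟩ := (IsLocalization.eq_iff_exists (Submonoid.powers (π (toB π α s))) _).mp heq
  obtain ⟨w, hwB, hwA⟩ := exists_pinch π α (toB π α s ^ m * (b * toB π α s ^ l)) (toA π α s ^ m * (a * toA π α s ^ k)) (by
    simp only [map_mul, map_pow] at hm ⊢
    rw [← compat π α s]
    exact hm)
  obtain ⟨v, hv⟩ := (IsLocalization.Away.algebraMap_isUnit (S := T) s).pow (m + (k + l))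
  have hmapB : ∀ c, IsLocalization.Away.map T (Localization.Away (toB π α s)) (toB π α) s (algebraMap _ T c) =
      algebraMap B _ (toB π α c) := fun c => IsLocalization.map_eq _ c
  have hmapA : ∀ c, IsLocalization.Away.map T (Localization.Away (toA π α s)) (toA π α) s (algebraMap _ T c) =
      algebraMap A _ (toA π α c) := fun c => IsLocalization.map_eq _ c
  refine ⟨algebraMap _ T w * ((v⁻¹ : Tˣ) : T), ?_, ?_⟩
  · have hu := (IsLocalization.Away.algebraMap_isUnit (S := Localization.Away (toB π α s)) (toB π α s)).pow (m + (k + l))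
    refine hu.mul_right_cancel ?_
    conv_lhs => rw [← hmapB, ← map_pow, ← hv, ← map_mul, Units.inv_mul_cancel_right, hmapB, hwB]
    rw [map_mul, map_mul, map_pow, map_pow, ← hb]
    ring
  · have hu := (IsLocalization.Away.algebraMap_isUnit (S := Localization.Away (toA π α s)) (toA π α s)).pow (m + (k + l))
    refine hu.mul_right_cancel ?_
    conv_lhs => rw [← hmapA, ← map_pow, ← hv, ← map_mul, Units.inv_mul_cancel_right, hmapA, hwA]
    rw [map_mul, map_mul, map_pow, map_pow, ← ha]
    ring

/-- Compatible morphisms glue over a basic open set on which they land in one affine open. -/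
theorem exists_hom_away (f : Spec (CommRingCat.of B) ⟶ G) (a : Spec (CommRingCat.of A) ⟶ G)
    (hfa : Spec.map (CommRingCat.ofHom π) ≫ f = Spec.map (CommRingCat.ofHom α) ≫ a)
    (U : G.Opens) (hU : IsAffineOpen U)
    (hfU : ∀ Q : Spec (CommRingCat.of B), toB π α s ∉ Q.asIdeal → f Q ∈ U)
    (haU : ∀ Q : Spec (CommRingCat.of A), toA π α s ∉ Q.asIdeal → a Q ∈ U) :
    ∃ h : Spec (CommRingCat.of (Localization.Away s)) ⟶ G,
      Spec.map (CommRingCat.ofHom (IsLocalization.Away.map (Localization.Away s) (Localization.Away (toB π α s)) (toB π α) s)) ≫ h =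
        Spec.map (CommRingCat.ofHom (algebraMap B (Localization.Away (toB π α s)))) ≫ f ∧
      Spec.map (CommRingCat.ofHom (IsLocalization.Away.map (Localization.Away s) (Localization.Away (toA π α s)) (toA π α) s)) ≫ h =
        Spec.map (CommRingCat.ofHom (algebraMap A (Localization.Away (toA π α s)))) ≫ a := by
  haveI : IsAffine U.toScheme := hU
  let T := Localization.Away s
  let Bs := Localization.Away (toB π α s)
  let As := Localization.Away (toA π α s)
  let Ds := Localization.Away (π (toB π α s))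
  let φ : Bs →+* Ds := IsLocalization.Away.map Bs Ds π (toB π α s)
  haveI : IsLocalization.Away (α (toA π α s)) Ds := compat π α s ▸ (inferInstance : IsLocalization.Away (π (toB π α s)) Ds)
  let ψ : As →+* Ds := IsLocalization.Away.map As Ds α (toA π α s)
  have hφc : φ.comp (algebraMap B Bs) = (algebraMap D Ds).comp π := IsLocalization.map_comp _
  have hψc : ψ.comp (algebraMap A As) = (algebraMap D Ds).comp α := IsLocalization.map_comp _
  have hf0 : Set.range (Spec.map (CommRingCat.ofHom (algebraMap B Bs)) ≫ f) ⊆ Set.range U.ι := by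
    rintro _ ⟨w, rfl⟩
    rw [Scheme.Opens.range_ι]
    refine hfU _ ?_
    exact fun hm => w.2.ne_top (Ideal.eq_top_of_isUnit_mem _ hm (IsLocalization.Away.algebraMap_isUnit _))
  have ha0 : Set.range (Spec.map (CommRingCat.ofHom (algebraMap A As)) ≫ a) ⊆ Set.range U.ι := by
    rintro _ ⟨w, rfl⟩
    rw [Scheme.Opens.range_ι]
    refine haU _ ?_
    exact fun hm => w.2.ne_top (Ideal.eq_top_of_isUnit_mem _ hm (IsLocalization.Away.algebraMap_isUnit _))
  let eB : Γ(U.toScheme, ⊤) ⟶ CommRingCat.of Bs := Spec.preimage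
    (IsOpenImmersion.lift U.ι _ hf0 ≫ U.toScheme.isoSpec.hom)
  let eA : Γ(U.toScheme, ⊤) ⟶ CommRingCat.of As := Spec.preimage
    (IsOpenImmersion.lift U.ι _ ha0 ≫ U.toScheme.isoSpec.hom)
  have hcompat : eB ≫ CommRingCat.ofHom φ = eA ≫ CommRingCat.ofHom ψ := by
    apply Spec.map_injective
    rw [Spec.map_comp, Spec.map_comp, Spec.map_preimage, Spec.map_preimage, ← Category.assoc, ← Category.assoc]
    congr 1
    rw [← cancel_mono U.ι, Category.assoc, Category.assoc, IsOpenImmersion.lift_fac, IsOpenImmersion.lift_fac,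
      ← Category.assoc, ← Category.assoc, ← specMap_comp, ← specMap_comp, hφc, hψc,
      specMap_comp (algebraMap D Ds) π, specMap_comp (algebraMap D Ds) α, Category.assoc, Category.assoc, hfa]
  choose z hz1 hz2 using fun g => exists_lift_away π α s T (eB.hom g) (eA.hom g) (Ds := Ds) φ ψ
    (fun b => RingHom.congr_fun hφc b) (fun a => RingHom.congr_fun hψc a)
    (RingHom.congr_fun (congrArg CommRingCat.Hom.hom hcompat) g)
  let mB := IsLocalization.Away.map T Bs (toB π α) s
  let mA := IsLocalization.Away.map T As (toA π α) s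
  have hinj : ∀ x y : T, mB x = mB y → mA x = mA y → x = y := by
    intro x y h1 h2
    rw [← sub_eq_zero]
    set w := x - y
    have hw1 : mB w = 0 := by rw [map_sub, h1, sub_self]
    have hw2 : mA w = 0 := by rw [map_sub, h2, sub_self]
    obtain ⟨⟨c, ⟨_, N, rfl⟩⟩, hc⟩ := IsLocalization.surj (Submonoid.powers s) w
    have h1' : algebraMap B Bs (toB π α c) = 0 := by
      have := congrArg mB hc
      rw [map_mul, hw1, zero_mul] at this
      rw [this]; exact (IsLocalization.map_eq _ c).symm
    have h2' : algebraMap A As (toA π α c) = 0 := by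
      have := congrArg mA hc
      rw [map_mul, hw2, zero_mul] at this
      rw [this]; exact (IsLocalization.map_eq _ c).symm
    obtain ⟨⟨_, m, rfl⟩, hm⟩ := (IsLocalization.map_eq_zero_iff (Submonoid.powers (toB π α s)) _ _).mp h1'
    obtain ⟨⟨_, m', rfl⟩, hm'⟩ := (IsLocalization.map_eq_zero_iff (Submonoid.powers (toA π α s)) _ _).mp h2'
    have hx0 : s ^ (m + m') * c = 0 := by
      refine pinch_ext π α ?_ ?_
      · rw [map_mul, map_pow, pow_add, mul_right_comm, show toB π α s ^ m * toB π α c = 0 from hm, zero_mul, map_zero]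
      · rw [map_mul, map_pow, pow_add, mul_assoc, show toA π α s ^ m' * toA π α c = 0 from hm', mul_zero, map_zero]
    have hu : IsUnit (algebraMap _ T s) := IsLocalization.Away.algebraMap_isUnit s
    have h0 : algebraMap _ T c = 0 := by
      refine (hu.pow (m + m')).mul_left_cancel ?_
      rw [← map_pow, ← map_mul, hx0, map_zero, mul_zero]
    have h3 : w * algebraMap _ T (s ^ N) = 0 := hc.trans h0
    rw [map_pow] at h3
    exact (hu.pow N).mul_left_eq_zero.mp h3
  have hB : ∀ g, mB (z g) = eB.hom g := hz1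
  have hA : ∀ g, mA (z g) = eA.hom g := hz2
  let zh : Γ(U.toScheme, ⊤) →+* T :=
    { toFun := z
      map_one' := hinj _ _ (by rw [hB, map_one, map_one]) (by rw [hA, map_one, map_one])
      map_mul' := fun u v => hinj _ _ (by rw [map_mul, hB, hB, hB, map_mul]) (by rw [map_mul, hA, hA, hA, map_mul])
      map_zero' := hinj _ _ (by rw [hB, map_zero, map_zero]) (by rw [hA, map_zero, map_zero])
      map_add' := fun u v => hinj _ _ (by rw [map_add, hB, hB, hB, map_add]) (by rw [map_add, hA, hA, hA, map_add]) }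
  refine ⟨Spec.map (CommRingCat.ofHom zh) ≫ U.toScheme.isoSpec.inv ≫ U.ι, ?_, ?_⟩
  · have e : CommRingCat.ofHom zh ≫ CommRingCat.ofHom mB = eB := CommRingCat.hom_ext (RingHom.ext hz1)
    show Spec.map (CommRingCat.ofHom mB) ≫ _ = _
    rw [← Category.assoc, ← Spec.map_comp, e, Spec.map_preimage]
    simp
    rfl
  · have e : CommRingCat.ofHom zh ≫ CommRingCat.ofHom mA = eA := CommRingCat.hom_ext (RingHom.ext hz2)
    show Spec.map (CommRingCat.ofHom mA) ≫ _ = _
    rw [← Category.assoc, ← Spec.map_comp, e, Spec.map_preimage]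
    simp
    rfl

/-- Every point has a basic neighbourhood mapping into one affine open. -/
theorem exists_nbhd (hπ : Function.Surjective π) (f : Spec (CommRingCat.of B) ⟶ G) (a : Spec (CommRingCat.of A) ⟶ G)
    (hfa : Spec.map (CommRingCat.ofHom π) ≫ f = Spec.map (CommRingCat.ofHom α) ≫ a) (P : PrimeSpectrum (Pinch π α)) :
    ∃ (s : Pinch π α) (U : G.Opens), s ∉ P.asIdeal ∧ IsAffineOpen U ∧
      (∀ Q : Spec (CommRingCat.of B), toB π α s ∉ Q.asIdeal → f Q ∈ U) ∧
      (∀ Q : Spec (CommRingCat.of A), toA π α s ∉ Q.asIdeal → a Q ∈ U) := by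
  by_cases hK : RingHom.ker (toA π α) ≤ P.asIdeal
  · have hs : Function.Surjective (toA π α) := fun x => by
      obtain ⟨b, hb⟩ := hπ (α x)
      exact ⟨⟨(b, x), hb⟩, rfl⟩
    let q : PrimeSpectrum A := ⟨P.asIdeal.map (toA π α), Ideal.map_isPrime_of_surjective hs hK⟩
    have hq : (q.asIdeal.comap (toA π α)) = P.asIdeal := by
      rw [show q.asIdeal = Ideal.map (toA π α) P.asIdeal from rfl, Ideal.comap_map_of_surjective _ hs]
      exact sup_eq_left.mpr hK
    obtain ⟨_, ⟨U : G.Opens, hU, rfl⟩, hqU, -⟩ :=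
      G.isBasis_affineOpens.exists_subset_of_mem_open (Set.mem_univ (a q)) isOpen_univ
    obtain ⟨_, ⟨a0, rfl⟩, hqa, haU⟩ := PrimeSpectrum.isTopologicalBasis_basic_opens.exists_subset_of_mem_open
      (show q ∈ ((a ⁻¹ᵁ U : (Spec (CommRingCat.of A)).Opens) : Set (Spec (CommRingCat.of A))) from hqU)
      (TopologicalSpace.Opens.isOpen _)
    obtain ⟨J, hJ⟩ := (PrimeSpectrum.isClosed_iff_zeroLocus_ideal _).mp ((f ⁻¹ᵁ U).isOpen.isClosed_compl)
    have hrad : α a0 ∈ (J.map π).radical := by
      rw [Ideal.radical_eq_sInf, Submodule.mem_sInf]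
      rintro R' ⟨hle, hR'⟩
      by_contra hne
      let δ : PrimeSpectrum D := ⟨R', hR'⟩
      have h1 : (PrimeSpectrum.comap π δ : PrimeSpectrum B) ∈ PrimeSpectrum.zeroLocus (J : Set B) := fun x hx =>
        hle (Ideal.mem_map_of_mem π hx)
      rw [← hJ] at h1
      refine h1 ?_
      show f (PrimeSpectrum.comap π δ) ∈ U
      have h2 : f (PrimeSpectrum.comap π δ) = a (PrimeSpectrum.comap α δ) :=
        congrArg (fun m : Spec (CommRingCat.of D) ⟶ G => m δ) hfa
      rw [h2]
      exact haU hne
    obtain ⟨m, hm'⟩ := Ideal.mem_radical_iff.mp hrad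
    have hm : α a0 ^ (m + 1) ∈ J.map π := by rw [pow_succ]; exact Ideal.mul_mem_right _ _ hm'
    obtain ⟨j, hj, hjm⟩ := (Ideal.mem_map_iff_of_surjective π hπ).mp hm
    refine ⟨⟨(j, a0 ^ (m + 1)), show π j = α (a0 ^ (m + 1)) by rw [hjm, map_pow]⟩, U, ?_, hU, fun Q hQ => ?_, fun Q hQ => ?_⟩
    · rw [← hq]
      exact fun h => hqa (q.2.mem_of_pow_mem (m + 1) h)
    · by_contra hne
      have : Q ∈ PrimeSpectrum.zeroLocus (J : Set B) := by rw [← hJ]; exact hne
      exact hQ (this hj)
    · refine haU (show a0 ∉ Q.asIdeal from fun h => hQ ?_)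
      show a0 ^ (m + 1) ∈ Q.asIdeal
      exact Ideal.pow_mem_of_mem _ h (m + 1) (Nat.succ_pos m)
  · obtain ⟨c, hc, hcP⟩ := SetLike.not_le_iff_exists.mp hK
    rcases pinch_surjective π α hπ P with ⟨Q, hQ⟩ | ⟨q, hq⟩
    · obtain ⟨_, ⟨U : G.Opens, hU, rfl⟩, hQU, -⟩ :=
        G.isBasis_affineOpens.exists_subset_of_mem_open (Set.mem_univ (f Q)) isOpen_univ
      obtain ⟨_, ⟨b0, rfl⟩, hQb, hbU⟩ := PrimeSpectrum.isTopologicalBasis_basic_opens.exists_subset_of_mem_open
        (show Q ∈ ((f ⁻¹ᵁ U : (Spec (CommRingCat.of B)).Opens) : Set (Spec (CommRingCat.of B))) from hQU)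
        (TopologicalSpace.Opens.isOpen _)
      have hπc : π (toB π α c) = 0 := by rw [compat, RingHom.mem_ker.mp hc, map_zero]
      refine ⟨⟨(b0 * toB π α c, 0), show π (b0 * toB π α c) = α 0 by rw [map_mul, hπc, mul_zero, map_zero]⟩,
        U, ?_, hU, fun Q' hQ' => hbU (fun h => hQ' (Ideal.mul_mem_right _ _ h)),
        fun Q' hQ' => absurd (zero_mem _) hQ'⟩
      rw [← hQ]
      intro h
      refine (Q.2.mem_or_mem h).elim hQb fun h' => hcP ?_
      rw [← hQ]
      exact h'
    · exact absurd (by rw [← hq]; show toA π α c ∈ q.asIdeal; rw [RingHom.mem_ker.mp hc]; exact zero_mem _) hcP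

/-- Compatible morphisms extend to the spectrum of the fibre product. -/
theorem exists_hom_pinch (hπ : Function.Surjective π) (f : Spec (CommRingCat.of B) ⟶ G)
    (a : Spec (CommRingCat.of A) ⟶ G) (hfa : Spec.map (CommRingCat.ofHom π) ≫ f = Spec.map (CommRingCat.ofHom α) ≫ a) :
    ∃ h : Spec (CommRingCat.of (Pinch π α)) ⟶ G,
      Spec.map (CommRingCat.ofHom (toB π α)) ≫ h = f ∧ Spec.map (CommRingCat.ofHom (toA π α)) ≫ h = a := by
  choose sP UP hsP hUP hfP haP using exists_nbhd π α G hπ f a hfa
  have hspan : Ideal.span (Set.range sP) = ⊤ := by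
    by_contra hne
    obtain ⟨M, hM, hle⟩ := Ideal.exists_le_maximal _ hne
    exact hsP ⟨M, hM.isPrime⟩ (hle (Ideal.subset_span ⟨_, rfl⟩))
  choose hl hlB hlA using fun P => exists_hom_away π α G (sP P) f a hfa (UP P) (hUP P) (hfP P) (haP P)
  let 𝒰 := (Scheme.affineOpenCoverOfSpanRangeEqTop (R := CommRingCat.of (Pinch π α)) sP hspan).openCover
  have hglue : ∀ P P', pullback.fst (𝒰.f P) (𝒰.f P') ≫ hl P = pullback.snd (𝒰.f P) (𝒰.f P') ≫ hl P' := by
    intro P P'
    let T := TensorProduct (Pinch π α) (Localization.Away (sP P)) (Localization.Away (sP P'))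
    haveI : IsLocalization.Away (algebraMap (Pinch π α) (Localization.Away (sP P)) (sP P')) T := by
      have h : IsLocalization (Algebra.algebraMapSubmonoid (Localization.Away (sP P)) (Submonoid.powers (sP P'))) T :=
        inferInstance
      rwa [Algebra.algebraMapSubmonoid_powers] at h
    haveI : IsLocalization.Away (sP P * sP P') T := IsLocalization.Away.mul' (Localization.Away (sP P)) T _ _
    have key : Spec.map (CommRingCat.ofHom (algebraMap (Localization.Away (sP P)) T)) ≫ hl P =
        Spec.map (CommRingCat.ofHom (R := Localization.Away (sP P')) (S := T)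
          (Algebra.TensorProduct.includeRight : _ →ₐ[Pinch π α] T).toRingHom) ≫ hl P' := by
      have hr : (Algebra.TensorProduct.includeRight : _ →ₐ[Pinch π α] T).toRingHom.comp
          (algebraMap (Pinch π α) (Localization.Away (sP P'))) = algebraMap (Pinch π α) T := RingHom.ext fun c => AlgHom.commutes (Algebra.TensorProduct.includeRight : Localization.Away (sP P') →ₐ[Pinch π α] T) c
      refine hom_ext_away π α G (sP P * sP P') hπ T _ _ ?_ ?_
      · exact overlap_comp (toB π α) (sP P) (sP P') T _ (Localization.Away (sP P)) (Localization.Away (sP P'))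
          (algebraMap (Localization.Away (sP P)) T) _ (IsScalarTower.algebraMap_eq _ _ _).symm hr
          _ _ f (hl P) (hl P') (hlB P) (hlB P')
      · exact overlap_comp (toA π α) (sP P) (sP P') T _ (Localization.Away (sP P)) (Localization.Away (sP P'))
          (algebraMap (Localization.Away (sP P)) T) _ (IsScalarTower.algebraMap_eq _ _ _).symm hr
          _ _ a (hl P) (hl P') (hlA P) (hlA P')
    refine (cancel_epi (pullbackSpecIso (Pinch π α) (Localization.Away (sP P)) (Localization.Away (sP P'))).inv).mp ?_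
    erw [pullbackSpecIso_inv_fst'_assoc, pullbackSpecIso_inv_snd_assoc]
    exact key
  refine ⟨𝒰.glueMorphisms hl hglue, ?_, ?_⟩
  · refine Scheme.Cover.hom_ext ((Scheme.affineOpenCoverOfSpanRangeEqTop (R := CommRingCat.of B)
      (fun P => toB π α (sP P)) (by
        rw [← Function.comp_def, Set.range_comp, ← Ideal.map_span, hspan, Ideal.map_top])).openCover) _ _ fun P => ?_
    show Spec.map (CommRingCat.ofHom (algebraMap B (Localization.Away (toB π α (sP P))))) ≫ _ = _
    have h1 : (algebraMap B (Localization.Away (toB π α (sP P)))).comp (toB π α) =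
        (IsLocalization.Away.map (Localization.Away (sP P)) (Localization.Away (toB π α (sP P))) (toB π α) (sP P)).comp
          (algebraMap (Pinch π α) _) := (IsLocalization.map_comp _).symm
    rw [← Category.assoc, ← Spec.map_comp, ← CommRingCat.ofHom_comp, h1, CommRingCat.ofHom_comp, Spec.map_comp,
      Category.assoc]
    erw [𝒰.ι_glueMorphisms hl hglue P]
    exact hlB P
  · refine Scheme.Cover.hom_ext ((Scheme.affineOpenCoverOfSpanRangeEqTop (R := CommRingCat.of A)
      (fun P => toA π α (sP P)) (by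
        rw [← Function.comp_def, Set.range_comp, ← Ideal.map_span, hspan, Ideal.map_top])).openCover) _ _ fun P => ?_
    show Spec.map (CommRingCat.ofHom (algebraMap A (Localization.Away (toA π α (sP P))))) ≫ _ = _
    have h1 : (algebraMap A (Localization.Away (toA π α (sP P)))).comp (toA π α) =
        (IsLocalization.Away.map (Localization.Away (sP P)) (Localization.Away (toA π α (sP P))) (toA π α) (sP P)).comp
          (algebraMap (Pinch π α) _) := (IsLocalization.map_comp _).symm
    rw [← Category.assoc, ← Spec.map_comp, ← CommRingCat.ofHom_comp, h1, CommRingCat.ofHom_comp, Spec.map_comp,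
      Category.assoc]
    erw [𝒰.ι_glueMorphisms hl hglue P]
    exact hlA P

end Groth.Agent.QuillenLib
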